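import Groth.Agent.EtTopDesc.Generic
import Groth.Agent.BigPBC.Sites
import Groth.Agent.HTopV.Thick
import Groth.Agent.EtIntegral.Push
import Groth.Agent.AICCover.Finite

/-!
The topology generated by étale coverings and finite surjective morphisms: inverse images of all étale sheaves
are acyclic, and universally open surjective morphisms locally of finite presentation are coverings.
-/

set_option autoImplicit false
set_option backward.isDefEq.respectTransparency false
set_option backward.isDefEq.respectTransparency.types false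
set_option backward.defeqAttrib.useBackward true
set_option linter.style.haveILetI false
set_option linter.unusedSectionVars false
set_option linter.auxLemma false
set_option maxHeartbeats 1000000
set_option synthInstance.maxHeartbeats 400000

universe u

open CategoryTheory CategoryTheory.Limits AlgebraicGeometry Opposite

noncomputable section

namespace Groth.Agent.EtTopDesc

open BigSiteLib BigPBC

/-- étale coverings together with finite surjective morphisms -/
def fhPre : Precoverage Scheme.{u} where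
  coverings T := {R | R ∈ Scheme.etalePrecoverage T ∨
    ∃ (V : Scheme.{u}) (p : V ⟶ T), IsFinite p ∧ Surjective p ∧ R = Presieve.singleton p}

theorem etale_le_fh : Scheme.etalePrecoverage.{u} ≤ fhPre.toGrothendieck.toPrecoverage := fun T R hR => by
  rw [GrothendieckTopology.mem_toPrecoverage_iff]
  exact Precoverage.generate_mem_toGrothendieck (Or.inl hR)

theorem fh_le_ph : fhPre.{u}.toGrothendieck ≤ HTop.phTopology := by
  refine Precoverage.toGrothendieck_le_iff_le_toPrecoverage.mpr fun T R hR => ?_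
  rcases hR with hR | ⟨V, p, hp, hs, rfl⟩
  · exact etale_le_phPrecoverage T hR
  · rw [GrothendieckTopology.mem_toPrecoverage_iff]
    have h := Precoverage.generate_mem_toGrothendieck ((HTop.presieve₀_mem_phPrecoverage_iff _).mpr
      (HTopV.isPhCover_of_proper_surjective.{u} p))
    rwa [PreZeroHypercover.presieve₀_singleton] at h

instance aEtCont_fh (S : Scheme.{u}) : BigSite.AEtCont fhPre S := aEtCont_of_etale_le etale_le_fh S

instance epsCont_fh (S : Scheme.{u}) : BigSite.EpsCont Scheme.etalePrecoverage fhPre S :=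
  epsCont_of_etale_le etale_le_fh S

theorem isSheaf_fh_Pi (S : Scheme.{u}) (F : EtCoh.Ab S) : Presheaf.IsSheaf (QuotSh.J fhPre S) (Pi F).obj :=
  fun A => Presieve.isSheaf_of_le _
    (fun T R hR => by rw [GrothendieckTopology.mem_over_iff] at hR ⊢; exact fh_le_ph _ hR)
    (isSheaf_Jph_Pi F A)

variable {S : Scheme.{u}} (G : BigSite.Ab Scheme.etalePrecoverage S)

/-- Separatedness along finite surjective morphisms onto affines gives separatedness for the topology. -/
theorem fh_le_sepTop
    (h : ∀ (U : Over S), IsAffine U.left → ∀ ⦃V : Scheme.{u}⦄ (p : V ⟶ U.left) [IsFinite p] [Surjective p]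
      (x : G.obj.obj (op U)), G.obj.map (Over.homMk p : Over.mk (p ≫ U.hom) ⟶ U).op x = 0 → x = 0) :
    fhPre.{u}.toGrothendieck ≤ sepTop G := by
  refine Precoverage.toGrothendieck_le_iff_le_toPrecoverage.mpr fun T R hR => ?_
  rw [GrothendieckTopology.mem_toPrecoverage_iff]
  intro U g x hx
  refine eq_zero_of_nhds G x fun z => ?_
  rcases hR with hR | ⟨V, p, hp, hs, rfl⟩
  · obtain ⟨ι, Y, f, rfl⟩ := R.exists_eq_ofArrows
    obtain ⟨hsurj, hprop⟩ := (Scheme.ofArrows_mem_precoverage_iff _).1 hR
    obtain ⟨i, w, hw⟩ := hsurj (g z)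
    obtain ⟨v, hv₁, hv₂⟩ := Scheme.Pullback.exists_preimage_pullback (f := g) (g := f i) z w hw.symm
    haveI : Etale (f i) := hprop i
    let k : Over.mk (pullback.fst g (f i) ≫ U.hom) ⟶ U := Over.homMk (pullback.fst g (f i))
    refine ⟨_, k, hx k ⟨_, pullback.snd g (f i), f i, ⟨i⟩, pullback.condition.symm⟩,
      inferInstanceAs (Etale (pullback.fst g (f i))), v, hv₁⟩
  · obtain ⟨_, ⟨W'₀, hW', rfl⟩, hzW', -⟩ :=
      U.left.isBasis_affineOpens.exists_subset_of_mem_open (Set.mem_univ z) isOpen_univ
    let W' : U.left.Opens := W'₀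
    let U' : Over S := Over.mk (W'.ι ≫ U.hom)
    let j : U' ⟶ U := Over.homMk W'.ι
    let pr : pullback (W'.ι ≫ g) p ⟶ W'.toScheme := pullback.fst (W'.ι ≫ g) p
    haveI : IsFinite pr := MorphismProperty.pullback_fst _ _ ‹_›
    haveI : Surjective pr := MorphismProperty.pullback_fst _ _ ‹_›
    refine ⟨U', j, h U' hW' pr _ ?_, inferInstanceAs (Etale W'.ι), ⟨z, hzW'⟩, rfl⟩
    rw [← ConcreteCategory.comp_apply, ← Functor.map_comp, ← op_comp]
    refine hx _ ⟨_, pullback.snd (W'.ι ≫ g) p, p, ⟨⟩, ?_⟩
    exact pullback.condition.symm.trans (Category.assoc _ _ _).symm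

/-- Higher direct images on the big étale site along finite morphisms vanish. -/
theorem isZero_RpushBig_finite {T : Scheme.{u}} (f : T ⟶ S) [IsFinite f] (I : EtCoh.Ab T) (n : ℕ) :
    IsZero ((BigSite.RpushBig Scheme.etalePrecoverage f (n + 1)).obj (Pi I)) := by
  let G := (BigSite.RpushBig Scheme.etalePrecoverage f (n + 1)).obj (Pi I)
  have hz : ∀ U : Over S, IsZero (G.obj.obj (op U)) := fun U => by
    obtain ⟨e⟩ := Groth.Agent.S6686.result f U.hom _ _ (IsPullback.of_hasPullback U.hom f).flip (Pi I) (n + 1)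
    haveI : IsFinite (pullback.fst U.hom f) := inferInstance
    have h0 : IsZero ((EtCoh.Rpush (pullback.fst U.hom f) (n + 1)).obj
        ((BigSite.resEtAlong Scheme.etalePrecoverage (pullback.snd U.hom f)).obj (Pi I))) :=
      EtIntegral.Rpush_succ_isZero _ _ n
    refine IsZero.of_iso (Functor.map_isZero ((sheafToPresheaf _ _) ⋙ (evaluation _ _).obj
      (op (EtCoh.top U.left))) (h0.of_iso e)) ?_
    exact G.obj.mapIso (Iso.op (Over.isoMk (Iso.refl _) (by change 𝟙 _ ≫ U.hom = 𝟙 _ ≫ U.hom; rfl) :
      (Over.map U.hom).obj ((EtFppf.a U.left).obj (EtCoh.top U.left)) ≅ U))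
  rw [IsZero.iff_id_eq_zero]
  apply Sheaf.hom_ext
  ext U x
  exact congrArg (fun q : G.obj.obj U ⟶ G.obj.obj U => q x) ((hz U.unop).eq_of_src (𝟙 _) 0)

/-- **Cohomological descent**: inverse images of all sheaves are acyclic for the forgetful functor. -/
theorem eAcyc_fh : ∀ (S : Scheme.{u}) (F : EtCoh.Ab S),
    EAcyc fhPre.{u} ((BigSite.piEtPull fhPre.{u} S).obj F) := by
  suffices ∀ (n : ℕ) (S : Scheme.{u}) (F : EtCoh.Ab S),
      IsZero (((E fhPre.{u} S).rightDerived (n + 1)).obj ((BigSite.piEtPull fhPre.{u} S).obj F)) from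
    fun S F n => this n S F
  intro n
  induction n using Nat.strong_induction_on with
  | _ n ih =>
  intro S F
  have hPi := isSheaf_fh_Pi.{u}
  let G := ((E fhPre.{u} S).rightDerived (n + 1)).obj ((BigSite.piEtPull fhPre.{u} S).obj F)
  have hsep : ∀ (U : Over S), IsAffine U.left → ∀ ⦃V : Scheme.{u}⦄ (p : V ⟶ U.left) [IsFinite p] [Surjective p]
      (x : G.obj.obj (op U)), G.obj.map (Over.homMk p : Over.mk (p ≫ U.hom) ⟶ U).op x = 0 → x = 0 := by
    intro U _ V p _ _ x hx
    let W := U.left
    let F' : EtCoh.Ab W := (EtCoh.pull U.hom).obj F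
    let I : EtCoh.Ab V := (EtCoh.pull p).obj F'
    haveI := EtMV.mono_unit_of_surjective p F'
    let α : F' ⟶ (EtCoh.push p).obj I := (EtCoh.pullPushAdj p).unit.app F'
    haveI : Mono α := ‹_›
    let Z : ShortComplex (EtCoh.Ab W) := ShortComplex.mk α (cokernel.π α) (cokernel.condition α)
    have hZ : Z.ShortExact := { exact := ShortComplex.exact_of_g_is_cokernel _ (cokernelIsCokernel _) }
    haveI := piEtPull_exact fhPre.{u} W
    haveI := piEtPull_additive fhPre.{u} W
    have hY : (Z.map (BigSite.piEtPull fhPre.{u} W)).ShortExact := hZ.map_of_exact _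
    have hm : Mono (((E fhPre.{u} W).rightDerived (n + 1)).map ((BigSite.piEtPull fhPre.{u} W).map α)) := by
      match n, ih with
      | 0, _ =>
        haveI : Epi ((E fhPre.{u} W).map (Z.map (BigSite.piEtPull fhPre.{u} W)).g) := by
          haveI := hZ.epi_g
          haveI := piEtPull_exact Scheme.etalePrecoverage W
          haveI : Epi ((BigSite.piEtPull Scheme.etalePrecoverage W).map Z.g) := inferInstance
          exact ((MorphismProperty.epimorphisms _).arrow_mk_iso_iff
            (((Functor.mapArrowFunctor _ _).mapIso (piIso fhPre.{u} hPi W)).app (Arrow.mk Z.g))).mpr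
              (inferInstanceAs (Epi ((BigSite.piEtPull Scheme.etalePrecoverage W).map Z.g)))
        exact mono_map_f_of_epi (E fhPre.{u} W) hY
      | k + 1, ih => exact mono_map_f_of_isZero (E fhPre.{u} W) hY k (ih k (Nat.lt_succ_self k) W _)
    haveI := hm
    let B := (BigSite.piEtPull fhPre.{u} V).obj I
    obtain ⟨H, m, hmm⟩ := exists_mono_push fhPre.{u} p n B (fun i hi => ih i hi V I) (fun i _ =>
      (isZero_RpushBig_finite p I i).of_iso
        ((BigSite.RpushBig Scheme.etalePrecoverage p (i + 1)).mapIso ((piIso fhPre.{u} hPi V).app I)))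
    haveI := hmm
    let e₀ := derivedSquareIso (E fhPre.{u} S) (E fhPre.{u} W) (BigSite.pullBig fhPre.{u} U.hom AddCommGrpCat.{u + 1})
      (fun I hI => haveI := hI; inferInstance) (BigSite.pullBig Scheme.etalePrecoverage U.hom AddCommGrpCat.{u + 1})
      (pullEps fhPre.{u} U.hom) ((BigSite.piEtPull fhPre.{u} S).obj F) (n + 1)
    let GW := (BigSite.pullBig Scheme.etalePrecoverage U.hom AddCommGrpCat.{u + 1}).obj G
    let μ : GW ⟶ (BigSite.pushBig Scheme.etalePrecoverage p AddCommGrpCat.{u + 1}).obj H :=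
      e₀.hom ≫ ((E fhPre.{u} W).rightDerived (n + 1)).map (pullPi fhPre.{u} U.hom hPi F).hom ≫
        ((E fhPre.{u} W).rightDerived (n + 1)).map ((BigSite.piEtPull fhPre.{u} W).map α) ≫
          ((E fhPre.{u} W).rightDerived (n + 1)).map ((pushPi fhPre.{u} p hPi).hom.app I) ≫ m
    haveI : Mono μ := inferInstance
    let e : (Over.map U.hom).obj (Over.mk (𝟙 W)) ≅ U :=
      Over.isoMk (Iso.refl _) (by change 𝟙 _ ≫ U.hom = 𝟙 _ ≫ U.hom; rfl)
    let y : GW.obj.obj (op (Over.mk (𝟙 W))) := G.obj.map e.hom.op x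
    have hy : y = 0 := by
      refine eq_zero_of_mono p GW μ y ?_
      change G.obj.map ((Over.map U.hom).map (Over.homMk p : Over.mk p ⟶ Over.mk (𝟙 W))).op (G.obj.map e.hom.op x) = 0
      rw [← ConcreteCategory.comp_apply, ← Functor.map_comp, ← op_comp]
      refine Eq.trans (congrArg (fun q : Over.mk (p ≫ U.hom) ⟶ U => G.obj.map q.op x)
        (Over.OverMorphism.ext ?_)) hx
      exact Category.comp_id p
    have h := congrArg (G.obj.map e.inv.op) hy
    change G.obj.map e.inv.op (G.obj.map e.hom.op x) = G.obj.map e.inv.op 0 at h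
    rw [← ConcreteCategory.comp_apply, ← Functor.map_comp, ← op_comp, e.inv_hom_id, op_id,
      CategoryTheory.Functor.map_id, map_zero] at h
    exact h
  have hz : ∀ (U : Over S) (x : G.obj.obj (op U)), x = 0 := fun U x => by
    obtain ⟨R, hR, hx⟩ := exists_sieve_zero fhPre.{u} G (isZero_Lsh_R fhPre.{u} S n _) x
    rw [GrothendieckTopology.mem_over_iff] at hR
    refine fh_le_sepTop G hsep _ hR U (𝟙 U.left) x fun Y k hk => hx k ?_
    obtain ⟨Y', g, h', hg, he⟩ := hk
    change k.left ≫ 𝟙 U.left = h' ≫ g.left at he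
    have hh : h' ≫ Y'.hom = Y.hom := by
      rw [← Over.w g, ← Category.assoc, ← he, Category.comp_id]
      exact Over.w k
    let l : Y ⟶ Y' := Over.homMk h' hh
    have hl : k = l ≫ g := Over.OverMorphism.ext ((Category.comp_id _).symm.trans he)
    rw [hl]
    exact R.downward_closed hg l
  rw [IsZero.iff_id_eq_zero]
  apply Sheaf.hom_ext
  ext U x
  exact (hz U.unop x).trans (hz U.unop _).symm

/-- a sieve covering on the members of a covering family is covering -/
theorem mem_of_gen {C : Type*} [Category C] {J : GrothendieckTopology C} {T : C} {R : Presieve T}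
    (hR : Sieve.generate R ∈ J T) {S : Sieve T} (h : ∀ ⦃Y : C⦄ (f : Y ⟶ T), R f → S.pullback f ∈ J Y) : S ∈ J T := by
  refine J.transitive hR S fun Y f hf => ?_
  obtain ⟨Z, a, b, hb, rfl⟩ := hf
  rw [Sieve.pullback_comp]
  exact J.pullback_stable a (h b hb)

/-- Universally open surjective morphisms locally of finite presentation are coverings. -/
theorem generate_singleton_mem_fh {X U : Scheme.{u}} (h : X ⟶ U) [UniversallyOpen h]
    [LocallyOfFinitePresentation h] [Surjective h] :
    Sieve.generate (Presieve.singleton h) ∈ fhPre.{u}.toGrothendieck U := by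
  have hzar : ∀ (T : Scheme.{u}) (ι : Type u) (O : ι → T.Opens), (∀ t : T, ∃ i, t ∈ O i) →
      Sieve.generate (Presieve.ofArrows (fun i => (O i).toScheme) fun i => (O i).ι) ∈
        fhPre.{u}.toGrothendieck T := fun T ι O hO => by
    refine Precoverage.generate_mem_toGrothendieck (Or.inl ?_)
    refine (Scheme.ofArrows_mem_precoverage_iff _).2 ⟨fun t => ?_, fun i => inferInstanceAs (Etale (O i).ι)⟩
    obtain ⟨i, hi⟩ := hO t
    exact ⟨i, ⟨t, hi⟩, rfl⟩
  refine mem_of_gen (hzar U U.affineOpens (fun W => W.1) fun t => ?_) ?_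
  · obtain ⟨_, ⟨W, hW, rfl⟩, htW, -⟩ := U.isBasis_affineOpens.exists_subset_of_mem_open (Set.mem_univ t) isOpen_univ
    exact ⟨⟨W, hW⟩, htW⟩
  rintro _ _ ⟨W⟩
  haveI : IsAffine W.1.toScheme := W.2
  haveI : UniversallyOpen (pullback.snd h W.1.ι) := MorphismProperty.pullback_snd _ _ ‹_›
  obtain ⟨Z, π, hs, hf, -, hsec⟩ := AICCover.exists_finite_cover (pullback.snd h W.1.ι)
  refine mem_of_gen (Precoverage.generate_mem_toGrothendieck
    (show Presieve.singleton π ∈ fhPre.{u} _ from Or.inr ⟨Z, π, hf, hs, rfl⟩)) ?_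
  rintro _ _ ⟨⟩
  choose O r hzO hr using hsec
  refine GrothendieckTopology.superset_covering _ ?_ (hzar Z Z O fun z => ⟨z, hzO z⟩)
  rw [Sieve.generate_le_iff]
  rintro _ _ ⟨z⟩
  refine ⟨X, r z ≫ pullback.fst h W.1.ι, h, ⟨⟩, ?_⟩
  rw [Category.assoc, pullback.condition, ← Category.assoc (r z), hr z]

/-- The descent spectral sequence of a universally open surjective morphism locally of finite presentation. -/
theorem descent_ss_univOpen {X Y : Scheme.{u}} (f : X ⟶ Y) [UniversallyOpen f] [LocallyOfFinitePresentation f]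
    [Surjective f] (F : EtCoh.Ab Y) :
    ∃ (E : CohomologicalSpectralSequence AddCommGrpCat.{u + 1} 1)
      (a : SpSeq.Abutment E (fun n : ℤ =>
        if 0 ≤ n then AddCommGrpCat.of (EtCoh.H Y F n.toNat) else AddCommGrpCat.of PUnit.{u + 2})),
      (∀ n, a.IsFinite n) ∧ SpSeq.IsBounded E ∧
      ∀ p q : ℤ, Nonempty ((E.page 1 le_rfl).X (p, q) ≅
        (if 0 ≤ p ∧ 0 ≤ q then
          AddCommGrpCat.of (EtCoh.H (EtCohDesc.P f p.toNat) (EtCohDesc.Fp f F p.toNat) q.toNat)
         else AddCommGrpCat.of PUnit.{u + 2})) :=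
  descent_ss fhPre f isSheaf_fh_Pi
    (fun U g => haveI : UniversallyOpen (pullback.fst g f) := MorphismProperty.pullback_fst _ _ ‹_›
      generate_singleton_mem_fh (pullback.fst g f))
    F (eAcyc_fh Y F) (fun _ => eAcyc_fh _ _)

end Groth.Agent.EtTopDesc
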