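import Groth.Agent.BigPBC.Conseq
import Groth.Agent.BigSiteLib.Commute
import Groth.Agent.BigSiteLib.AcyclicCompare
import Groth.Agent.BigSiteLib.Shriek
import Groth.Agent.EtIntegralDesc.Main
import Groth.Agent.MonadSS.Inj
import Groth.Agent.DerExt.Comp
import Groth.Agent.DerExt.Coyoneda
import Groth.Agent.GrothSS.Ext

/-!
Etale cohomological descent from acyclicity on a finer big site.
-/

set_option autoImplicit false
set_option linter.style.haveILetI false
set_option linter.unusedSectionVars false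
set_option backward.isDefEq.respectTransparency false
set_option backward.isDefEq.respectTransparency.types false
set_option maxHeartbeats 1000000
set_option synthInstance.maxHeartbeats 400000

universe u

noncomputable section

open CategoryTheory Category Limits Opposite AlgebraicGeometry
open Groth.Agent.EtCohDesc (P base Fp)
open Groth.Agent.EtIntegralDesc (pr₀ tailMap isPullback_zero isPullback_succ)

namespace Groth.Agent.EtTopDesc

variable (K : Precoverage Scheme.{u}) [∀ S : Scheme.{u}, BigSite.AEtCont K S]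
  [∀ S : Scheme.{u}, BigSite.EpsCont Scheme.etalePrecoverage K S]

variable {X Y Z : Scheme.{u}}

/-- restriction on big sites -/
abbrev pullK (f : X ⟶ Y) : BigSite.Ab K Y ⥤ BigSite.Ab K X :=
  BigSite.pullBig K f AddCommGrpCat.{u + 1}

/-- direct image on big sites -/
abbrev pushK (f : X ⟶ Y) : BigSite.Ab K X ⥤ BigSite.Ab K Y :=
  BigSite.pushBig K f AddCommGrpCat.{u + 1}

/-- the adjunction -/
abbrev adjK (f : X ⟶ Y) : pullK K f ⊣ pushK K f :=
  BigSite.bigAdj K f AddCommGrpCat.{u + 1}

/-- restriction along a composite -/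
def pullKComp (f : X ⟶ Y) (g : Y ⟶ Z) (h : X ⟶ Z) (w : f ≫ g = h) : pullK K g ⋙ pullK K f ≅ pullK K h :=
  (K.toGrothendieck).overMapPullbackComp AddCommGrpCat.{u + 1} f g ≪≫
    (K.toGrothendieck).overMapPullbackCongr AddCommGrpCat.{u + 1} w

/-- direct image along a composite -/
def pushKComp (f : X ⟶ Y) (g : Y ⟶ Z) (h : X ⟶ Z) (w : f ≫ g = h) : pushK K f ⋙ pushK K g ≅ pushK K h :=
  (((adjK K g).comp (adjK K f)).ofNatIsoLeft (pullKComp K f g h w)).rightAdjointUniq (adjK K h)

/-- direct image along the identity -/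
def pushKId (S : Scheme.{u}) : pushK K (𝟙 S) ≅ 𝟭 (BigSite.Ab K S) :=
  ((adjK K (𝟙 S)).ofNatIsoLeft
    ((K.toGrothendieck).overMapPullbackId AddCommGrpCat.{u + 1} S)).rightAdjointUniq
      Adjunction.id

variable (f : X ⟶ Y)

/-- the monad of the morphism -/
abbrev Tb : BigSite.Ab K Y ⥤ BigSite.Ab K Y := pullK K f ⋙ pushK K f

theorem nonempty_itK_iso : ∀ p, Nonempty (MonadSS.itF (Tb K f) p ≅ pullK K (base f p) ⋙ pushK K (base f p)) := by
  intro p
  induction p with
  | zero =>
    exact ⟨Functor.isoWhiskerRight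
        ((Functor.leftUnitor (pullK K f)).symm ≪≫ Functor.isoWhiskerRight (pushKId K Y).symm (pullK K f) ≪≫
          BigSiteLib.pushPullIso K (isPullback_zero f).flip.flip AddCommGrpCat.{u + 1}) (pushK K f) ≪≫
      Functor.associator _ _ _ ≪≫
      Functor.isoWhiskerLeft _ (pushKComp K (pr₀ f 0) f (base f 0) (WidePullback.π_arrow _ _))⟩
  | succ p ih =>
    obtain ⟨a⟩ := ih
    exact ⟨Functor.isoWhiskerRight a (Tb K f) ≪≫ Functor.associator _ _ _ ≪≫
      Functor.isoWhiskerLeft (pullK K (base f p)) ((Functor.associator _ _ _).symm ≪≫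
        Functor.isoWhiskerRight (BigSiteLib.pushPullIso K (isPullback_succ f p) AddCommGrpCat.{u + 1}) (pushK K f) ≪≫
        Functor.associator _ _ _) ≪≫
      (Functor.associator _ _ _).symm ≪≫
      Functor.isoWhiskerRight (pullKComp K (tailMap f p) (base f p) (base f (p + 1))
        (WidePullback.lift_base _ _ _ _)) _ ≪≫
      Functor.isoWhiskerLeft _ (pushKComp K (pr₀ f (p + 1)) f (base f (p + 1)) (WidePullback.π_arrow _ _))⟩

theorem mono_unit
    (hcov : ∀ (U : Scheme.{u}) (g : U ⟶ Y),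
      Sieve.generate (Presieve.singleton (pullback.fst g f)) ∈ K.toGrothendieck U)
    (G : BigSite.Ab K Y) : Mono ((adjK K f).unit.app G) := by
  haveI : ∀ U, Mono (((adjK K f).unit.app G).hom.app U) := by
    intro U
    rw [AddCommGrpCat.mono_iff_injective]
    obtain ⟨U⟩ := U
    intro x y h
    let k := (Over.mapPullbackAdj f).counit.app U
    let fst : pullback U.hom f ⟶ U.left := pullback.fst U.hom f
    let R : Sieve U := Sieve.generate (Presieve.singleton k)
    have hR : R ∈ QuotSh.J K Y U := by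
      rw [GrothendieckTopology.mem_over_iff]
      refine GrothendieckTopology.superset_covering _ ?_ (hcov U.left U.hom)
      rw [Sieve.generate_le_iff]
      rintro _ _ ⟨⟩
      exact ⟨_, k, 𝟙 _, ⟨_, 𝟙 _, k, ⟨⟩, Category.id_comp _⟩, (Category.id_comp _).symm⟩
    let ι := AddCommGrpCat.uliftZMultiplesAddEquiv (G.obj.obj (op U))
    refine ι.symm.injective ?_
    refine G.property.hom_ext ⟨R, hR⟩ _ _ fun I => ?_
    obtain ⟨W, a, hI⟩ := I
    obtain ⟨_, b, _, ⟨⟩, rfl⟩ := hI
    refine (AddCommGrpCat.uliftZMultiplesAddEquiv (G.obj.obj (op W))).injective ?_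
    change G.obj.map (b ≫ k).op (ι (ι.symm x)) = G.obj.map (b ≫ k).op (ι (ι.symm y))
    rw [AddEquiv.apply_symm_apply, AddEquiv.apply_symm_apply, op_comp, Functor.map_comp]
    exact congrArg (G.obj.map b.op) h
  haveI : Mono ((adjK K f).unit.app G).hom := NatTrans.mono_of_mono_app _
  exact Sheaf.Hom.mono_of_presheaf_mono _ _ _

/-- the constant sheaf on the big site -/
abbrev ZK (S : Scheme.{u}) : BigSite.Ab K S :=
  (constantSheaf (QuotSh.J K S) AddCommGrpCat.{u + 1}).obj (AddCommGrpCat.of (ULift.{u + 1} ℤ))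

/-- global sections -/
abbrev gamK (S : Scheme.{u}) : BigSite.Ab K S ⥤ AddCommGrpCat.{u + 1} := preadditiveCoyoneda.obj (op (ZK K S))

/-- maps out of the constant sheaf are global sections -/
def secEquiv (S : Scheme.{u}) (G : BigSite.Ab K S) : (ZK K S ⟶ G) ≃+ G.obj.obj (op (Over.mk (𝟙 S))) :=
  AddEquiv.trans ((constantSheafAdj (QuotSh.J K S) AddCommGrpCat.{u + 1}
    (Over.mkIdTerminal (X := S))).homAddEquiv (AddCommGrpCat.of (ULift ℤ)) G)
    (AddCommGrpCat.uliftZMultiplesAddEquiv _)

/-- global sections -/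
def gamSecIso (S : Scheme.{u}) :
    gamK K S ≅ sheafToPresheaf _ _ ⋙ (evaluation _ AddCommGrpCat.{u + 1}).obj (op (Over.mk (𝟙 S))) :=
  NatIso.ofComponents (fun G => (secEquiv K S G).toAddCommGrpIso) fun {G G'} φ => by
    ext x
    change secEquiv K S G' (x ≫ φ) = φ.hom.app _ (secEquiv K S G x)
    simp only [secEquiv, AddEquiv.trans_apply]
    rfl

/-- global sections of a direct image -/
def pushGamIso (k : Z ⟶ Y) : pushK K k ⋙ gamK K Y ≅ gamK K Z :=
  Functor.isoWhiskerLeft (pushK K k) (gamSecIso K Y) ≪≫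
    Functor.isoWhiskerLeft (sheafToPresheaf (QuotSh.J K Z) AddCommGrpCat.{u + 1})
      ((evaluation _ AddCommGrpCat.{u + 1}).mapIso (Iso.op (Over.isoMk (asIso (pullback.snd (𝟙 Y) k)).symm
        (IsIso.inv_hom_id _) :
        Over.mk (𝟙 Z) ≅ (Over.pullback k).obj (Over.mk (𝟙 Y))))) ≪≫
    (gamSecIso K Z).symm

variable (hPi : ∀ (S : Scheme.{u}) (F : EtCoh.Ab S), Presheaf.IsSheaf (QuotSh.J K S) (BigSiteLib.Pi F).obj)

include hPi in
/-- etale cohomology as cohomology on the big site -/
theorem nonempty_gamK_derived (S : Scheme.{u}) (F : EtCoh.Ab S)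
    (hA : BigPBC.EAcyc K ((BigSite.piEtPull K S).obj F)) (q : ℕ) :
    Nonempty (((gamK K S).rightDerived q).obj ((BigSite.piEtPull K S).obj F) ≅
      AddCommGrpCat.of (EtCoh.H S F q)) := by
  obtain ⟨e⟩ := BigPBC.nonempty_H_pi K hPi S F hA q
  exact ⟨(DerExt.rightDerivedIso (ZK K S) q).app _ ≪≫ e.symm.toAddCommGrpIso⟩

/-- the retraction -/
def rho : Tb K f ⋙ Tb K f ⟶ Tb K f where
  app G := (pushK K f).map ((adjK K f).counit.app ((pullK K f).obj G))
  naturality {G G'} φ := by
    change (pushK K f).map ((pullK K f).map ((pushK K f).map ((pullK K f).map φ))) ≫ _ =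
      _ ≫ (pushK K f).map ((pullK K f).map φ)
    rw [← Functor.map_comp, ← Functor.map_comp]
    exact congrArg (pushK K f).map ((adjK K f).counit.naturality _)

include hPi in
/-- The descent spectral sequence of a covering of a finer topology for which `F` is acyclic. -/
theorem descent_ss
    (hcov : ∀ (U : Scheme.{u}) (g : U ⟶ Y),
      Sieve.generate (Presieve.singleton (pullback.fst g f)) ∈ K.toGrothendieck U)
    (F : EtCoh.Ab Y) (hA₀ : BigPBC.EAcyc K ((BigSite.piEtPull K Y).obj F))
    (hA : ∀ p, BigPBC.EAcyc K ((BigSite.piEtPull K (P f p)).obj (Fp f F p))) :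
    ∃ (E : CohomologicalSpectralSequence AddCommGrpCat.{u + 1} 1)
      (a : SpSeq.Abutment E (fun n : ℤ =>
        if 0 ≤ n then AddCommGrpCat.of (EtCoh.H Y F n.toNat) else AddCommGrpCat.of PUnit.{u + 2})),
      (∀ n, a.IsFinite n) ∧ SpSeq.IsBounded E ∧
      ∀ p q : ℤ, Nonempty ((E.page 1 le_rfl).X (p, q) ≅
        (if 0 ≤ p ∧ 0 ≤ q then
          AddCommGrpCat.of (EtCoh.H (P f p.toNat) (Fp f F p.toNat) q.toNat)
         else AddCommGrpCat.of PUnit.{u + 2})) := by
  haveI : (Tb K f).Additive := inferInstance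
  refine MonadSS.exists_ss_inj (Tb K f) (adjK K f).unit (fun I hI => ?_) (mono_unit K f hcov) (gamK K Y) (rho K f)
    (fun G => ?_) ((BigSite.piEtPull K Y).obj F)
    (fun n => AddCommGrpCat.of (EtCoh.H Y F n)) (fun p q => AddCommGrpCat.of (EtCoh.H (P f p) (Fp f F p) q))
    _ (AddCommGrpCat.isZero_of_subsingleton _) (fun n => nonempty_gamK_derived K hPi Y F hA₀ n) (fun p q => ?_)
  · haveI : Injective ((pullK K f).obj I) := BigSiteLib.injective_pullBig _ f I
    exact Injective.injective_of_adjoint (adjK K f) ((pullK K f).obj I)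
  · exact ((pushK K f).map_comp _ _).symm.trans
      ((congrArg (pushK K f).map ((adjK K f).left_triangle_components G)).trans ((pushK K f).map_id _))
  · obtain ⟨a⟩ := nonempty_itK_iso K f p
    let b := BigPBC.pullPi K (base f p) hPi F
    obtain ⟨c⟩ := nonempty_gamK_derived K hPi (P f p) (Fp f F p) (hA p) q
    let e : MonadSS.itF (Tb K f) p ⋙ gamK K Y ≅ pullK K (base f p) ⋙ gamK K (P f p) :=
      Functor.isoWhiskerRight a (gamK K Y) ≪≫ Functor.associator _ _ _ ≪≫
        Functor.isoWhiskerLeft _ (pushGamIso K (base f p))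
    haveI : (pullK K (base f p)).PreservesHomology := Functor.preservesHomologyOfExact _
    haveI : (pullK K (base f p)).PreservesInjectiveObjects :=
      ⟨fun {I} hI => haveI := hI; BigSiteLib.injective_pullBig _ (base f p) I⟩
    exact ⟨(GrothSS.rightDerivedMapIso e q).app _ ≪≫
      (DerExt.rightDerivedCompIso (pullK K (base f p)) (gamK K (P f p)) q).app _ ≪≫
      ((gamK K (P f p)).rightDerived q).mapIso b ≪≫ c⟩

end Groth.Agent.EtTopDesc
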